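import Groth.Agent.HomSch8.Transfer
import Groth.Agent.CohExch.Chart0
import Groth.Agent.CohExch.ChartApps
import Groth.Agent.Coherent.CohBC.UniformVanish
import Groth.Agent.Coherent.Serre.AmpleAffine
import Groth.Agent.Quot8.Twist
import Groth.Agent.CurveRR24.DegOneApps
import Groth.Agent.DCat.PullTensor
import Groth.Agent.FinCovLib29.Basis
import Groth.Agent.GrassLib.Classify

/-!
# Homomorphisms into flat families over an affine base
-/

set_option autoImplicit false
set_option linter.style.haveILetI false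
set_option linter.unusedSectionVars false
set_option backward.isDefEq.respectTransparency false
set_option maxHeartbeats 1600000

universe u

open CategoryTheory CategoryTheory.Limits AlgebraicGeometry Opposite TopologicalSpace
open Groth.Agent.Coherent Groth.Agent.PicLib Groth.Agent.Quot8

noncomputable section

namespace Groth.Agent.HomSch8

variable {X S : Scheme.{u}}

/-- A trivialisation gives a basis. -/
theorem exists_isBasisOn_of_iso {N : X.Modules} {n : ℕ} (U₀ : X.Opens)
    (e : N.restrict U₀.ι ≅ FlatMod.freeMod U₀.toScheme n) :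
    ∃ b : ULift.{u} (Fin n) → Γ(N, U₀), IsBasisOn N U₀ b := by
  classical
  let ψ := e ≪≫ (Props12.freeModIso U₀.toScheme n).symm
  let v : ∀ W : U₀.toScheme.Opens, ULift.{u} (Fin n) → Γ(N, U₀.ι ''ᵁ W) := fun W i =>
    (N.restrictAppIso U₀.ι W).hom (unitVal (freeInj i ≫ ψ.inv) W)
  have key : IsBasisOn N (U₀.ι ''ᵁ ⊤) (v ⊤) := fun V hV => by
    obtain ⟨W, rfl⟩ : ∃ W : U₀.toScheme.Opens, U₀.ι ''ᵁ W = V := by
      refine ⟨U₀.ι ⁻¹ᵁ V, ?_⟩
      rw [U₀.ι.image_preimage_eq_opensRange_inf, Scheme.Opens.opensRange_ι, inf_eq_right]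
      exact hV.trans (Scheme.Opens.ι_image_top U₀).le
    have hres : ∀ i, resM N hV (v ⊤ i) = v W i := fun i => by
      show resM N hV ((N.restrictAppIso U₀.ι ⊤).hom (unitVal _ ⊤)) = (N.restrictAppIso U₀.ι W).hom (unitVal _ W)
      rw [← resM_unitVal (freeInj i ≫ ψ.inv) (le_top : W ≤ ⊤)]
      rfl
    have h1 := ConcreteCategory.bijective_of_isIso (U₀.ι.appIso W).hom
    have h2 := (freeSectionsEquiv (X := U₀.toScheme) (I := ULift.{u} (Fin n)) W).symm.bijective
    have h3 := ConcreteCategory.bijective_of_isIso (C := AddCommGrpCat) (ψ.inv.app W)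
    have h4 := ConcreteCategory.bijective_of_isIso (N.restrictAppIso U₀.ι W).hom
    have h1' : Function.Bijective (fun c : ULift.{u} (Fin n) → Γ(X, U₀.ι ''ᵁ W) => fun i => (U₀.ι.appIso W).hom (c i)) :=
      Function.Bijective.piMap fun _ => h1
    convert h4.comp (h3.comp (h2.comp h1')) using 1
    funext c
    simp only [Function.comp_apply, hres]
    rw [freeMod_app, map_sum]
    refine Finset.sum_congr rfl fun i _ => ?_
    refine Eq.trans ?_ (Scheme.Modules.smul_restrictAppIso_hom_apply U₀.ι N W _ _).symm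
    congr 1
    show c i = (U₀.ι.appIso W).inv (freeSectionsEquiv W ((freeSectionsEquiv W).symm _) i)
    rw [LinearEquiv.apply_symm_apply, ← ConcreteCategory.comp_apply, Iso.hom_inv_id]
    rfl
  exact ⟨_, FinCovLib29.isBasisOn_restrict key (Scheme.Opens.ι_image_top U₀).ge⟩

/-- A basis near a point may be taken among global sections on an affine scheme. -/
theorem exists_global_basis [IsAffine S] {N : S.Modules} [Coh.IsQCoh N] {n : ℕ} {U : S.Opens} {s : S} (hs : s ∈ U)
    {b : ULift.{u} (Fin n) → Γ(N, U)} (hb : IsBasisOn N U b) :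
    ∃ (W : S.Opens) (t : ULift.{u} (Fin n) → Γ(N, ⊤)), s ∈ W ∧ W ≤ U ∧ IsAffineOpen W ∧
      IsBasisOn N W fun i => resM N le_top (t i) := by
  obtain ⟨r, hrU, hsr⟩ := (isAffineOpen_top S).exists_basicOpen_le (V := U) (⟨s, hs⟩ : U) trivial
  choose m t ht using fun i => qcoh_exists_pow_smul (M := N) (isAffineOpen_top S) r (resM N hrU (b i))
  refine ⟨S.basicOpen r, t, hsr, hrU, (isAffineOpen_top S).basicOpen r, fun V hV => ?_⟩
  have hunit : ∀ i, IsUnit (S.presheaf.map (homOfLE hV).op (S.presheaf.map (homOfLE (S.basicOpen_le r)).op (r ^ m i))) :=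
    fun i => by
      refine IsUnit.map _ ?_
      rw [map_pow]
      exact (S.toRingedSpace.isUnit_res_basicOpen r).pow _
  let u : ULift.{u} (Fin n) → Γ(S, V)ˣ := fun i => (hunit i).unit
  have hres : ∀ i, resM N hV (resM N (le_top : S.basicOpen r ≤ ⊤) (t i)) = (u i : Γ(S, V)) • resM N (hV.trans hrU) (b i) :=
    fun i => by
      rw [show resM N (le_top : S.basicOpen r ≤ ⊤) (t i) = _ from ht i, resM_smul, resM_resM]
      rfl
  convert (hb (hV.trans hrU)).comp (Equiv.piCongrRight fun i => (u i).mulRight).bijective using 1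
  funext c
  simp only [Function.comp_apply]
  refine Finset.sum_congr rfl fun i _ => ?_
  rw [hres, smul_smul]
  rfl

theorem tensorR_map_smulMod (L M : X.Modules) (r : Γ(X, ⊤)) :
    (tensorR L).map (EulerLib.smulMod M r) = EulerLib.smulMod ((tensorR L).obj M) r := by
  refine AmpleLib.hom_ext fun U a b => ?_
  refine (DCat.PullTensor.tensorBi_map_tmul _ _ _ _).trans ?_
  rw [ThetaLib.smulMod_app', AmpleLib.tmul_smul_left]
  exact (ThetaLib.smulMod_app' _ r U _).symm

variable (f : X ⟶ S)

/-- Sections of the inverse image of a module over a base open are coordinates in a basis of the direct image. -/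
theorem bijective_coords {G : X.Modules} {n : ℕ} {t : ULift.{u} (Fin n) → Γ((Scheme.Modules.pushforward f).obj G, ⊤)}
    {W : S.Opens} (hW : IsBasisOn ((Scheme.Modules.pushforward f).obj G) W fun i => resM _ le_top (t i))
    (T : Over S) (hT : ∀ x : T.left, T.hom x ∈ W)
    (hbc : IsIso (CohBC.bc0 f T.hom (pullback.snd f T.hom) (pullback.fst f T.hom) pullback.condition G)) :
    Function.Bijective fun a : ULift.{u} (Fin n) → Γ(T.left, ⊤) =>
      ∑ i, (PicF.XTproj f T).appTop (a i) • (show Γ(FGA.ET f G T, ⊤) from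
        pullSec (pullback.fst f T.hom) (show Γ(G, ⊤) from t i)) := by
  haveI := hbc
  let β := CohBC.bc0 f T.hom (pullback.snd f T.hom) (pullback.fst f T.hom) pullback.condition G
  have hle : (⊤ : T.left.Opens) ≤ T.hom ⁻¹ᵁ W := fun x _ => hT x
  have h1 := (IsBasisOn.pull T.hom hW) hle
  have h2 := ConcreteCategory.bijective_of_isIso (C := AddCommGrpCat) (β.app ⊤)
  suffices heq : (fun a : ULift.{u} (Fin n) → Γ(T.left, ⊤) =>
      ∑ i, (PicF.XTproj f T).appTop (a i) • (show Γ(FGA.ET f G T, ⊤) from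
        pullSec (pullback.fst f T.hom) (show Γ(G, ⊤) from t i))) =
      fun a => β.app ⊤ (∑ i, a i • resM _ hle (pullSec T.hom (resM _ le_top (t i)))) from
    heq ▸ h2.comp h1
  funext a
  simp only [map_sum, Scheme.Modules.Hom.app_smul]
  refine Finset.sum_congr rfl fun i _ => ?_
  refine congrArg₂ (fun (c : Γ(PicF.XT f T, ⊤)) (z : Γ(FGA.ET f G T, ⊤)) => c • z) rfl ?_
  rw [← resM_pullSec, resM_resM]
  rw [app_resM β]
  rw [CohExch.bc0_pullSec pullback.condition G ⊤ (show Γ(G, ⊤) from t i)]
  refine Eq.symm ?_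
  exact (resM_resM (FGA.ET f G T) _ _ _).trans (resM_self _ _ _)

/-- Homomorphisms into flat families over an affine base are represented by an affine scheme. -/
theorem isRep_of_isAmple [IsProper f] [IsAffine S] [IsNoetherian S] {L : X.Modules} (hL : CohB1.IsAmple L)
    {E F : X.Modules} (hE : Coh.IsCoh E) (hF : Coh.IsCoh F) (hfl : FlatMod.IsFlatOver f F) : IsRep f E F := by
  classical
  haveI : IsLocallyNoetherian X := LocallyOfFiniteType.isLocallyNoetherian f
  haveI : LocallyOfFinitePresentation f := LocallyOfFinitePresentation.iff_locallyOfFiniteType.2 inferInstance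
  have hLi : PicF.IsInvertible L := (AmpleLib.isAmple_iff_affGlocus.1 hL).1
  obtain ⟨N₁, hN₁⟩ := Serre.exists_epi_free_twist hL E hE
  obtain ⟨N₂, hN₂⟩ := CohBC.exists_uniform_fiberRank_zero f hF hLi fun P W g' p g _ hsq => by
    haveI : IsAffineHom g' := MorphismProperty.of_isPullback (P := @IsAffineHom) hsq.flip
      (isAffineHom_of_isAffine g)
    exact AmpleLib.isAmple_pullback_of_isAffineHom g' hL
  let N := max N₁ N₂
  obtain ⟨I, hI, π₀, hπ₀⟩ := hN₁ N (le_max_left _ _)
  let M := CohB1.tensorPow L N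
  have hM : PicF.IsInvertible M := AmpleLib.isInvertible_tensorPow hLi N
  obtain ⟨M', ⟨iM⟩⟩ := VarietyLib.exists_isInverseOf hM
  have hM' : PicF.IsInvertible M' := PicM.isInvertible_of_tensor hM
    (AmpleLib.glocus_isInvertible_of_iso iM.symm AmpleLib.isInvertible_structureModule)
  let G := CohB1.tensorMod F M
  have hG : Coh.IsCoh G := EulerLib.isCoh_twist hM hF
  haveI := hG.1
  have hGfl : FlatMod.IsFlatOver f G := CohExch.isFlatOver_twist f hM F hfl
  have hchart : ∀ s : S, ∃ C : CohExch.Chart f G, s ∈ C.U ∧ C.Flat ((0 : ℕ) : ℤ) := by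
    intro s
    obtain ⟨C, hsC, -⟩ := CohExch.exists_chart (f := f) (isFP_of_isCoh hG) hGfl (V := ⊤) (s := s) trivial
    obtain ⟨C', hs', -, -, h0, -, -⟩ := C.exists_zero_of_fibre (isFP_of_isCoh hG) hGfl hsC 1
      ((CohExch.subsingleton_fiberH_iff_rank (isFP_of_isCoh hG) s 1).2 (hN₂ N (le_max_right _ _) 1 one_pos s))
    exact ⟨C', hs', h0⟩
  have hbc : ∀ T : Over S, IsIso (CohBC.bc0 f T.hom (pullback.snd f T.hom) (pullback.fst f T.hom)
      pullback.condition G) := fun T =>
    CohExch.isIso_bc0_of_flat (IsPullback.of_hasPullback f T.hom) fun z => hchart (T.hom z)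
  haveI : Coh.IsQCoh ((Scheme.Modules.pushforward f).obj G) := (Existence.isCoh_push_of_isProper f hG).1
  haveI : Coh.IsQCoh F := hF.1
  refine isRep_of_local E F fun s => ?_
  obtain ⟨C, hsC, hC⟩ := hchart s
  obtain ⟨W₁, n, hsW₁, ⟨e⟩⟩ := C.exists_trivial_nhd0 hC hsC
  obtain ⟨b, hb⟩ := exists_isBasisOn_of_iso W₁ e
  obtain ⟨W, t, hsW, -, hWa, hW⟩ := exists_global_basis hsW₁ hb
  refine ⟨W, hsW, ?_⟩
  -- the chart
  let R := tensorR M'
  let E₀ := R.obj (freeMod X I)
  haveI : R.IsEquivalence := isEquivalence_tensorR (AmpleLib.tensorComm M' M ≪≫ iM)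
  haveI := hπ₀
  haveI : Epi (R.map π₀) := R.map_epi π₀
  let cE := (tensorRComp iM).app E
  let cF : R.obj G ≅ F := (tensorRComp iM).app F
  let p : E₀ ⟶ E := R.map π₀ ≫ cE.hom
  haveI : Epi p := epi_comp _ _
  have hE₀ : Coh.IsCoh E₀ := EulerLib.isCoh_twist hM' ((Serre.projSec_freeMod I).isCoh)
  let K := I × ULift.{u} (Fin n)
  let hh : K → (freeMod X I ⟶ G) := fun k =>
    freeDesc fun i => if i = k.1 then unitDesc G (show Γ(G, ⊤) from t k.2) else 0
  let ψ : K → (E₀ ⟶ F) := fun k => R.map (hh k) ≫ cF.hom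
  have key : ∀ T : Over S, (∀ x : T.left, T.hom x ∈ W) → Function.Bijective (theta f ψ T) := by
    intro T hT
    let q := pullback.fst f T.hom
    let Φ := Scheme.Modules.pullback q
    haveI : Φ.IsLeftAdjoint := (Scheme.Modules.pullbackPushforwardAdjunction q).isLeftAdjoint
    let RT := tensorR (Φ.obj M')
    let δ : ∀ A : X.Modules, Φ.obj (R.obj A) ≅ RT.obj (Φ.obj A) := fun A => DCat.PullTensor.pullTensorIso q A M'
    have hδ : ∀ {A B : X.Modules} (g : A ⟶ B), Φ.map (R.map g) = (δ A).hom ≫ RT.map (Φ.map g) ≫ (δ B).inv := by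
      intro A B g
      rw [← Category.assoc, Iso.eq_comp_inv]
      exact DCat.PullTensor.pullTensorHom_nat₁ q g M'
    let iM' : CohB1.tensorMod (Φ.obj M') (Φ.obj M) ≅ Coh.structureModule (PicF.XT f T) :=
      (DCat.PullTensor.pullTensorIso q M' M).symm ≪≫ Φ.mapIso (AmpleLib.tensorComm M' M ≪≫ iM) ≪≫
        PicLoc.pullbackStructureIso q
    haveI : RT.IsEquivalence := isEquivalence_tensorR iM'
    haveI : RT.IsLeftAdjoint := RT.asEquivalence.toAdjunction.isLeftAdjoint
    haveI : RT.Additive := by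
      haveI := preservesBinaryBiproducts_of_preservesBinaryCoproducts RT
      exact Functor.additive_of_preservesBinaryBiproducts RT
    let Λ : (K → Γ(T.left, ⊤)) → (Φ.obj (freeMod X I) ⟶ Φ.obj G) := fun a =>
      ∑ k, EulerLib.smulMod _ ((PicF.XTproj f T).appTop (a k)) ≫ Φ.map (hh k)
    have hth : theta f ψ T = fun a => (δ _).hom ≫ RT.map (Λ a) ≫ (δ G).inv ≫ Φ.map cF.hom := by
      funext a
      rw [theta, Functor.map_sum, Preadditive.sum_comp, Preadditive.comp_sum]
      refine Finset.sum_congr rfl fun k _ => ?_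
      conv_rhs => rw [RT.map_comp, tensorR_map_smulMod]
      show EulerLib.smulMod _ _ ≫ Φ.map (R.map (hh k) ≫ cF.hom) = _
      rw [Functor.map_comp, hδ]
      simp only [Category.assoc]
      rw [reassoc_of% (ThetaLib.smulMod_comm (δ (freeMod X I)).hom ((PicF.XTproj f T).appTop (a k)))]
    rw [hth]
    refine Function.Bijective.comp (g := fun x => (δ _).hom ≫ x ≫ (δ G).inv ≫ Φ.map cF.hom)
      (Function.bijective_iff_has_inverse.2 ⟨fun y => (δ _).inv ≫ y ≫ Φ.map cF.inv ≫ (δ G).hom,
        fun x => by simp [← Functor.map_comp_assoc], fun y => by simp [← Functor.map_comp]⟩)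
      (Function.Bijective.comp (g := fun x => RT.map x) ⟨RT.map_injective, RT.map_surjective⟩ ?_)
    -- values on the generators
    let ev : (Φ.obj (freeMod X I) ⟶ Φ.obj G) → I → Γ(Φ.obj G, ⊤) := fun g i =>
      g.app ⊤ (pullSec q (unitVal (freeInj i) ⊤))
    have hev : Function.Injective ev := fun g g' h => GrassLib.hom_ext_free q g g' fun i => congrFun h i
    have hval : ∀ (a : K → Γ(T.left, ⊤)) (i : I), ev (Λ a) i =
        ∑ l, (PicF.XTproj f T).appTop (a (i, l)) • (show Γ(Φ.obj G, ⊤) from pullSec q (show Γ(G, ⊤) from t l)) := by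
      intro a i
      have happ : ∀ k : K, (EulerLib.smulMod _ ((PicF.XTproj f T).appTop (a k)) ≫ Φ.map (hh k)).app ⊤
          (pullSec q (unitVal (freeInj i) ⊤)) =
          if i = k.1 then ((PicF.XTproj f T).appTop (a k) • (show Γ(Φ.obj G, ⊤) from pullSec q (show Γ(G, ⊤) from t k.2)))
            else 0 := by
        intro k
        show (Φ.map (hh k)).app ⊤ ((EulerLib.smulMod _ _).app ⊤ _) = _
        rw [ThetaLib.smulMod_app', Scheme.Modules.Hom.app_smul, show PicLib.res (le_top : (⊤ : (PicF.XT f T).Opens) ≤ ⊤) ((PicF.XTproj f T).appTop (a k)) = (PicF.XTproj f T).appTop (a k) from ConcreteCategory.congr_hom ((PicF.XT f T).presheaf.map_id (op ⊤)) _]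
        have h3 : (hh k).app ⊤ (unitVal (freeInj i) ⊤) = if i = k.1 then (show Γ(G, ⊤) from t k.2) else 0 := by
          show unitVal (freeInj i ≫ hh k) ⊤ = _
          rw [freeInj_freeDesc]
          split
          · rw [unitVal_unitDesc, resM_self]
          · rfl
        refine (congrArg (fun z : Γ(Φ.obj G, ⊤) => (PicF.XTproj f T).appTop (a k) • z)
          (DCat.PullTensor.pullback_map_pullSec q (hh k) ⊤ _)).trans ?_
        rw [h3]
        split
        · rfl
        · exact (congrArg (fun z : Γ(Φ.obj G, ⊤) => (PicF.XTproj f T).appTop (a k) • z) (map_zero _)).trans (smul_zero _)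
      show (∑ k, EulerLib.smulMod _ ((PicF.XTproj f T).appTop (a k)) ≫ Φ.map (hh k)).app ⊤ _ = _
      rw [show ∀ (g : K → (Φ.obj (freeMod X I) ⟶ Φ.obj G)) (x : Γ(Φ.obj (freeMod X I), ⊤)),
        (∑ k, g k).app ⊤ x = ∑ k, (g k).app ⊤ x from fun g x =>
          map_sum (⟨⟨fun φ : Φ.obj (freeMod X I) ⟶ Φ.obj G => φ.app ⊤ x, rfl⟩, fun _ _ => rfl⟩ :
            (Φ.obj (freeMod X I) ⟶ Φ.obj G) →+ Γ(Φ.obj G, ⊤)) g Finset.univ]
      rw [Finset.sum_congr rfl fun k _ => happ k, Fintype.sum_prod_type, Finset.sum_eq_single i]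
      · simp
      · intro j _ hj
        exact Finset.sum_eq_zero fun l _ => if_neg (Ne.symm hj)
      · exact fun h => absurd (Finset.mem_univ i) h
    obtain ⟨hinj, hsurj⟩ := bijective_coords f hW T hT (hbc T)
    refine ⟨fun a a' h => funext fun ⟨i, l⟩ => ?_, fun g => ?_⟩
    · have := congrFun (congrArg ev h) i
      rw [hval, hval] at this
      exact congrFun (hinj this) l
    · choose c hc using fun i => hsurj (ev g i)
      exact ⟨fun k => c k.1 k.2, hev (funext fun i => (hval _ i).trans (hc i))⟩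
  -- restriction to the open
  let ι := (f ⁻¹ᵁ W).ι
  have hsq : IsPullback ι (f ∣_ W) f W.ι := (isPullback_morphismRestrict f W).flip
  haveI : IsProper (f ∣_ W) := MorphismProperty.of_isPullback (P := @IsProper) hsq inferInstance
  haveI : AlgebraicGeometry.IsNoetherian W.toScheme :=
    { toIsLocallyNoetherian := inferInstance, toCompactSpace := isCompact_iff_compactSpace.1 hWa.isCompact }
  haveI : IsAffine W := hWa
  haveI : IsAffineHom W.ι := isAffineHom_of_isAffine _
  haveI : IsAffineHom ι := MorphismProperty.of_isPullback (P := @IsAffineHom) hsq.flip inferInstance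
  haveI := Grass.epi_pullback_map ι p
  have hfin : Finite K := inferInstance
  refine exists_rep (f ∣_ W) (E₀ := (Scheme.Modules.pullback ι).obj E₀)
    (L := (Scheme.Modules.pullback ι).obj L) (fun V hV => ?_) (ZClosLib.isCoh_pullback ι E₀ hE₀)
    (ZClosLib.isCoh_pullback ι E hE) (ZClosLib.isCoh_pullback ι F hF)
    (fun x => Desc19b.isFlatOverAt_baseChange f _ _ _ hsq F x (hfl _))
    ((Scheme.Modules.pullback ι).map p) (fun k : K => (Scheme.Modules.pullback ι).map (ψ k)) ?_
  · haveI : IsAffine V := hV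
    haveI : IsAffineHom V.ι := isAffineHom_of_isAffine _
    haveI : IsAffineHom ((f ∣_ W) ⁻¹ᵁ V).ι :=
      MorphismProperty.of_isPullback (P := @IsAffineHom) (isPullback_morphismRestrict (f ∣_ W) V) inferInstance
    exact AmpleLib.isAmple_pullback_of_isAffineHom _ (AmpleLib.isAmple_pullback_of_isAffineHom ι hL)
  · intro T
    have hT : ∀ x : ((Over.map W.ι).obj T).left, ((Over.map W.ι).obj T).hom x ∈ W := fun x => (T.hom x).2
    have h : (fun a => conjFam hsq E₀ F T (theta f ψ ((Over.map W.ι).obj T) a)) =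
        theta (f ∣_ W) (fun k => (Scheme.Modules.pullback ι).map (ψ k)) T :=
      funext fun a => conjFam_theta hsq E₀ F ψ T a
    have := (bijective_conjFam hsq E₀ F T).comp (key _ hT)
    exact Subsingleton.elim (Fintype.ofFinite K) (inferInstance : Fintype K) ▸ (h ▸ this)

end Groth.Agent.HomSch8
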