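import Groth.Agent.Quot8.QuotCalc
import Groth.Agent.GrassLib.QuotFun
import Groth.Agent.Desc19b.QDesc.FF
import Groth.Agent.Desc19b.QDesc.EtSheaf

/-!
# The functor of homomorphisms between families of modules
-/

set_option autoImplicit false
set_option linter.style.haveILetI false
set_option linter.unusedSectionVars false
set_option backward.isDefEq.respectTransparency false
set_option maxHeartbeats 1000000

universe u

open CategoryTheory CategoryTheory.Limits AlgebraicGeometry Opposite TopologicalSpace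
open Groth.Agent.Quot8

noncomputable section

namespace Groth.Agent.HomSch8

section General

variable {Z Y P X : Scheme.{u}}

/-- Associativity of the comparisons of inverse images. -/
theorem bcGenIso_assoc (z : Z ⟶ Y) (b : Y ⟶ P) (a : P ⟶ X) {k : Z ⟶ P} {a' : Y ⟶ X} {a'' : Z ⟶ X}
    (wk : z ≫ b = k) (w : b ≫ a = a') (w' : z ≫ a' = a'') (wc : k ≫ a = a'') (F : X.Modules) :
    (bcGenIso z b wk ((Scheme.Modules.pullback a).obj F)).hom ≫ (bcGenIso k a wc F).hom =
      (Scheme.Modules.pullback z).map (bcGenIso b a w F).hom ≫ (bcGenIso z a' w' F).hom := by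
  subst wk
  have h := GrassLib.quotBC_comp (𝟙 ((Scheme.Modules.pullback a).obj F)) w w' wc
  simp only [quotBC_eq_gen, CategoryTheory.Functor.map_id, Category.comp_id] at h
  let G := Scheme.Modules.pullback z
  haveI : IsIso (G.map (bcGenIso b a w F).inv) := inferInstance
  have e : (bcGenIso z b (rfl : z ≫ b = z ≫ b) ((Scheme.Modules.pullback a).obj F)).hom =
      (Scheme.Modules.pullbackComp z b).hom.app ((Scheme.Modules.pullback a).obj F) := by
    simp [bcGenIso, Scheme.Modules.pullbackCongr]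
  rw [e, ← cancel_epi ((Scheme.Modules.pullbackComp z b).inv.app ((Scheme.Modules.pullback a).obj F)),
    ← Category.assoc, Iso.inv_hom_id_app, ← cancel_epi (bcGenIso (z ≫ b) a wc F).inv]
  rw [← Category.assoc (bcGenIso (z ≫ b) a wc F).inv ((Scheme.Modules.pullbackComp z b).inv.app _), h]
  erw [Category.id_comp]
  rw [Iso.inv_hom_id, Category.assoc, ← Category.assoc (G.map _), ← Functor.map_comp, Iso.inv_hom_id,
    CategoryTheory.Functor.map_id, Category.id_comp, Iso.inv_hom_id]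

variable {E F G : X.Modules}

/-- Base change of a homomorphism of inverse images. -/
def rePull {a : P ⟶ X} {b : Y ⟶ P} {a' : Y ⟶ X} (w : b ≫ a = a')
    (φ : (Scheme.Modules.pullback a).obj E ⟶ (Scheme.Modules.pullback a).obj F) :
    (Scheme.Modules.pullback a').obj E ⟶ (Scheme.Modules.pullback a').obj F :=
  (bcGenIso b a w E).inv ≫ (Scheme.Modules.pullback b).map φ ≫ (bcGenIso b a w F).hom

variable {a : P ⟶ X} {b : Y ⟶ P} {a' : Y ⟶ X} (w : b ≫ a = a')

theorem map_eq_rePull (φ : (Scheme.Modules.pullback a).obj E ⟶ (Scheme.Modules.pullback a).obj F) :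
    (Scheme.Modules.pullback b).map φ = (bcGenIso b a w E).hom ≫ rePull w φ ≫ (bcGenIso b a w F).inv := by
  simp [rePull]

theorem rePull_injective_map {φ ψ : (Scheme.Modules.pullback a).obj E ⟶ (Scheme.Modules.pullback a).obj F}
    (h : rePull w φ = rePull w ψ) : (Scheme.Modules.pullback b).map φ = (Scheme.Modules.pullback b).map ψ := by
  rw [map_eq_rePull w φ, h, ← map_eq_rePull]

theorem rePull_eq_zero_iff (φ : (Scheme.Modules.pullback a).obj E ⟶ (Scheme.Modules.pullback a).obj F) :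
    rePull w φ = 0 ↔ (Scheme.Modules.pullback b).map φ = 0 := by
  constructor
  · intro h
    rw [map_eq_rePull w φ, h, zero_comp, comp_zero]
  · intro h
    rw [rePull, h, zero_comp, comp_zero]

theorem rePull_comp_hom (φ : (Scheme.Modules.pullback a).obj E ⟶ (Scheme.Modules.pullback a).obj F)
    (ψ : (Scheme.Modules.pullback a).obj F ⟶ (Scheme.Modules.pullback a).obj G) :
    rePull w (φ ≫ ψ) = rePull w φ ≫ rePull w ψ := by
  simp [rePull]

theorem rePull_map (p : E ⟶ F) :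
    rePull w ((Scheme.Modules.pullback a).map p) = (Scheme.Modules.pullback a').map p := by
  have h : (Scheme.Modules.pullback b).map ((Scheme.Modules.pullback a).map p) ≫ (bcGenIso b a w F).hom =
      (bcGenIso b a w E).hom ≫ (Scheme.Modules.pullback a').map p :=
    ((Scheme.Modules.pullbackComp b a) ≪≫ (Scheme.Modules.pullbackCongr w)).hom.naturality p
  rw [rePull, h, Iso.inv_hom_id_assoc]

theorem rePull_congr {b₁ b₂ : Y ⟶ P} (e : b₁ = b₂) (w₁ : b₁ ≫ a = a') (w₂ : b₂ ≫ a = a')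
    (φ : (Scheme.Modules.pullback a).obj E ⟶ (Scheme.Modules.pullback a).obj F) : rePull w₁ φ = rePull w₂ φ := by
  subst e
  rfl

theorem rePull_rePull {z : Z ⟶ Y} {a'' : Z ⟶ X} (w' : z ≫ a' = a'') {k : Z ⟶ P} (wk : z ≫ b = k)
    (wc : k ≫ a = a'') (φ : (Scheme.Modules.pullback a).obj E ⟶ (Scheme.Modules.pullback a).obj F) :
    rePull w' (rePull w φ) = rePull wc φ := by
  have hn : (Scheme.Modules.pullback z).map ((Scheme.Modules.pullback b).map φ) ≫
      (bcGenIso z b wk ((Scheme.Modules.pullback a).obj F)).hom =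
      (bcGenIso z b wk ((Scheme.Modules.pullback a).obj E)).hom ≫ (Scheme.Modules.pullback k).map φ :=
    ((Scheme.Modules.pullbackComp z b) ≪≫ (Scheme.Modules.pullbackCongr wk)).hom.naturality φ
  have hE := bcGenIso_assoc z b a wk w w' wc E
  rw [← cancel_epi ((Scheme.Modules.pullback z).map (bcGenIso b a w E).hom ≫ (bcGenIso z a' w' E).hom)]
  conv_rhs => rw [← hE, rePull, Category.assoc, Iso.hom_inv_id_assoc, ← reassoc_of% hn, bcGenIso_assoc z b a wk w w' wc F]
  rw [rePull, Category.assoc, Iso.hom_inv_id_assoc, ← Functor.map_comp_assoc, rePull, Iso.hom_inv_id_assoc,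
    Functor.map_comp_assoc]

theorem rePull_id {c : P ⟶ P} (e : c = 𝟙 P) (wc : c ≫ a = a)
    (φ : (Scheme.Modules.pullback a).obj E ⟶ (Scheme.Modules.pullback a).obj F) : rePull wc φ = φ := by
  subst e
  have hid : ∀ M : X.Modules, (bcGenIso (𝟙 P) a wc M).hom =
      (Scheme.Modules.pullbackId P).hom.app ((Scheme.Modules.pullback a).obj M) := fun M => by
    have h := GrassLib.QElt.quotBC_id (𝟙 ((Scheme.Modules.pullback a).obj M)) wc
    rw [quotBC_eq_gen, CategoryTheory.Functor.map_id, Category.comp_id] at h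
    exact ((Iso.inv_comp_eq _).1 h).trans (Category.comp_id _) |>.symm
  rw [rePull, Iso.inv_comp_eq, hid, hid]
  exact (Scheme.Modules.pullbackId P).hom.naturality φ

/-- Base change of a homomorphism of nested inverse images. -/
theorem rePull_nest {z : Z ⟶ Y} {k : Z ⟶ P} (wk : z ≫ b = k) {a'' : Z ⟶ X} (w' : z ≫ a' = a'') (wc : k ≫ a = a'')
    (ψ : (Scheme.Modules.pullback a').obj E ⟶ (Scheme.Modules.pullback a').obj F) :
    rePull wk ((bcGenIso b a w E).hom ≫ ψ ≫ (bcGenIso b a w F).inv) =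
      (bcGenIso k a wc E).hom ≫ rePull w' ψ ≫ (bcGenIso k a wc F).inv := by
  have hE := bcGenIso_assoc z b a wk w w' wc E
  have hF := bcGenIso_assoc z b a wk w w' wc F
  rw [← cancel_epi (bcGenIso z b wk ((Scheme.Modules.pullback a).obj E)).hom, ← cancel_mono (bcGenIso k a wc F).hom]
  simp only [rePull, Category.assoc, Iso.hom_inv_id_assoc, Iso.inv_hom_id, Category.comp_id]
  rw [reassoc_of% hE, Iso.hom_inv_id_assoc, hF, Functor.map_comp, Functor.map_comp, Category.assoc, Category.assoc,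
    ← Functor.map_comp_assoc (Scheme.Modules.pullback z) (bcGenIso b a w F).inv, Iso.inv_hom_id,
    CategoryTheory.Functor.map_id, Category.id_comp]

/-- Compatible families give compatible descent data. -/
theorem nest_compat {Y' : Scheme.{u}} {b' : Y' ⟶ P} {a₂ : Y' ⟶ X} (w₂ : b' ≫ a = a₂) {z : Z ⟶ Y} {z' : Z ⟶ Y'}
    (hk : z' ≫ b' = z ≫ b) {c : Z ⟶ X} (wz : z ≫ a' = c) (wz' : z' ≫ a₂ = c)
    (ψ : (Scheme.Modules.pullback a').obj E ⟶ (Scheme.Modules.pullback a').obj F)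
    (ψ' : (Scheme.Modules.pullback a₂).obj E ⟶ (Scheme.Modules.pullback a₂).obj F)
    (key : rePull wz ψ = rePull wz' ψ') :
    (Scheme.Modules.pullback z).map ((bcGenIso b a w E).hom ≫ ψ ≫ (bcGenIso b a w F).inv) ≫
        Desc19b.QDesc.mcI b z (z ≫ b) rfl _ ≫ Desc19b.QDesc.mcH b' z' (z ≫ b) hk _ =
      (Desc19b.QDesc.mcI b z (z ≫ b) rfl _ ≫ Desc19b.QDesc.mcH b' z' (z ≫ b) hk _) ≫
        (Scheme.Modules.pullback z').map ((bcGenIso b' a w₂ E).hom ≫ ψ' ≫ (bcGenIso b' a w₂ F).inv) := by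
  have wc : (z ≫ b) ≫ a = c := by rw [Category.assoc, w, wz]
  have e : rePull (rfl : z ≫ b = z ≫ b) ((bcGenIso b a w E).hom ≫ ψ ≫ (bcGenIso b a w F).inv) =
      rePull hk ((bcGenIso b' a w₂ E).hom ≫ ψ' ≫ (bcGenIso b' a w₂ F).inv) := by
    rw [rePull_nest w rfl wz wc, rePull_nest w₂ hk wz' wc, key]
  have hI : ∀ {V : Scheme.{u}} (q : V ⟶ P) (y : Z ⟶ V) (hy : y ≫ q = z ≫ b) (M : P.Modules),
      Desc19b.QDesc.mcI q y _ hy M = (bcGenIso y q hy M).hom := by
    intro V q y hy M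
    rw [Desc19b.QDesc.mcI_eq]
    rfl
  have hH : ∀ {V : Scheme.{u}} (q : V ⟶ P) (y : Z ⟶ V) (hy : y ≫ q = z ≫ b) (M : P.Modules),
      Desc19b.QDesc.mcH q y _ hy M = (bcGenIso y q hy M).inv := by
    intro V q y hy M
    have h := Desc19b.QDesc.mcI_mcH q y _ hy M
    rw [hI q y hy M] at h
    exact ((Iso.eq_inv_comp _).2 h).trans (Category.comp_id _)
  rw [rePull, rePull, Iso.inv_comp_eq] at e
  rw [hI b z rfl, hI b z rfl, hH b' z' hk, hH b' z' hk, reassoc_of% e]
  simp

/-- Compatible families of homomorphisms of nested inverse images glue. -/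
theorem exists_hom_nested {ι : Type u} {Y₁ : ι → Scheme.{u}} (b₁ : ∀ i, Y₁ i ⟶ P) (hb : Desc19b.QDesc.Cov b₁)
    [Coh.IsQCoh ((Scheme.Modules.pullback a).obj F)] {c₁ : ∀ i, Y₁ i ⟶ X} (w₁ : ∀ i, b₁ i ≫ a = c₁ i)
    (ψ : ∀ i, (Scheme.Modules.pullback (c₁ i)).obj E ⟶ (Scheme.Modules.pullback (c₁ i)).obj F)
    (h : ∀ i j, ∃ (c : pullback (b₁ i) (b₁ j) ⟶ X) (wz : pullback.fst (b₁ i) (b₁ j) ≫ c₁ i = c)
      (wz' : pullback.snd (b₁ i) (b₁ j) ≫ c₁ j = c), rePull wz (ψ i) = rePull wz' (ψ j)) :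
    ∃ φ : (Scheme.Modules.pullback a).obj E ⟶ (Scheme.Modules.pullback a).obj F, ∀ i, rePull (w₁ i) φ = ψ i := by
  refine (Desc19b.QDesc.exists_hom_of_family hb
    (fun i => (bcGenIso (b₁ i) a (w₁ i) E).hom ≫ ψ i ≫ (bcGenIso (b₁ i) a (w₁ i) F).inv) fun i j => ?_).elim
    fun φ hφ => ⟨φ, fun i => ?_⟩
  · obtain ⟨c, wz, wz', key⟩ := h i j
    exact nest_compat (w₁ i) (w₁ j) pullback.condition.symm wz wz' (ψ i) (ψ j) key
  · rw [rePull, hφ i]
    simp

end General

section Families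

variable {X S : Scheme.{u}} (f : X ⟶ S) (E F : X.Modules) {T T' T'' : Over S}

/-- Base change of a family of homomorphisms. -/
def pullH (g : T' ⟶ T) (φ : FGA.ET f E T ⟶ FGA.ET f F T) : FGA.ET f E T' ⟶ FGA.ET f F T' :=
  rePull (FGA.XTmap_fst f g) φ

theorem pullH_eq (g : T' ⟶ T) (φ : FGA.ET f E T ⟶ FGA.ET f F T) :
    (FGA.ETiso f E g).inv ≫ (Scheme.Modules.pullback (PicF.XTmap f g)).map φ ≫ (FGA.ETiso f F g).hom =
      pullH f E F g φ := by
  rw [ETiso_eq, ETiso_eq]
  rfl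

theorem pullH_comp (a : T' ⟶ T) (b : T'' ⟶ T') (φ : FGA.ET f E T ⟶ FGA.ET f F T) :
    pullH f E F (b ≫ a) φ = pullH f E F b (pullH f E F a φ) :=
  (rePull_rePull (FGA.XTmap_fst f a) (FGA.XTmap_fst f b) (XTmap_comp f a b).symm (FGA.XTmap_fst f (b ≫ a)) φ).symm

theorem pullH_id (φ : FGA.ET f E T ⟶ FGA.ET f F T) : pullH f E F (𝟙 T) φ = φ :=
  rePull_id (XTmap_id f) _ φ

/-- The functor of homomorphisms. -/
def homFun : (Over S)ᵒᵖ ⥤ Type u where
  obj T := FGA.ET f E T.unop ⟶ FGA.ET f F T.unop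
  map t := TypeCat.ofHom fun φ => pullH f E F t.unop φ
  map_id T := ConcreteCategory.hom_ext _ _ fun φ => pullH_id f E F φ
  map_comp a b := ConcreteCategory.hom_ext _ _ fun φ => pullH_comp f E F a.unop b.unop φ

variable [Coh.IsQCoh F]

theorem cov_XTmap {ι : Type u} {V : ι → Over S} (a : ∀ i, V i ⟶ T) [∀ i, IsOpenImmersion (a i).left]
    (hcov : ∀ t : T.left, ∃ i, t ∈ (a i).left.opensRange) :
    Desc19b.QDesc.Cov fun i => PicF.XTmap f (a i) := by
  have hoi : ∀ i, IsOpenImmersion (PicF.XTmap f (a i)) := fun i =>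
    MorphismProperty.of_isPullback (P := @IsOpenImmersion) (FlatMor12.FlatFun.isPullback_XTmap f (a i)).flip inferInstance
  refine Desc19b.QDesc.cov_of_etale _ (fun i => ?_) fun x => ?_
  · haveI := hoi i
    infer_instance
  · obtain ⟨i, hi⟩ := hcov (PicF.XTproj f T x)
    obtain ⟨z, hz⟩ := exists_point_of_mem f (a i) x hi
    exact ⟨i, z, hz⟩

theorem pullH_ext_cover {ι : Type u} {V : ι → Over S} (a : ∀ i, V i ⟶ T) [∀ i, IsOpenImmersion (a i).left]
    (hcov : ∀ t : T.left, ∃ i, t ∈ (a i).left.opensRange) {φ ψ : FGA.ET f E T ⟶ FGA.ET f F T}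
    (h : ∀ i, pullH f E F (a i) φ = pullH f E F (a i) ψ) : φ = ψ := by
  haveI : Coh.IsQCoh (FGA.ET f F T) := EGA43.InjFibre.isQCoh_pullback _ F
  exact Desc19b.QDesc.map_injective (cov_XTmap f a hcov) fun i => rePull_injective_map (FGA.XTmap_fst f (a i)) (h i)

theorem exists_overlap {V₁ V₂ : Over S} (a₁ : V₁ ⟶ T) (a₂ : V₂ ⟶ T) :
    ∃ (W : Over S) (c : W ⟶ V₁) (d : W ⟶ V₂) (r : pullback (PicF.XTmap f a₁) (PicF.XTmap f a₂) ⟶ PicF.XT f W),
      c ≫ a₁ = d ≫ a₂ ∧ r ≫ PicF.XTmap f c = pullback.fst _ _ ∧ r ≫ PicF.XTmap f d = pullback.snd _ _ := by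
  let z := pullback.fst (PicF.XTmap f a₁) (PicF.XTmap f a₂)
  let z' := pullback.snd (PicF.XTmap f a₁) (PicF.XTmap f a₂)
  let W : Over S := Over.mk (pullback.fst a₁.left a₂.left ≫ V₁.hom)
  let c : W ⟶ V₁ := Over.homMk (pullback.fst a₁.left a₂.left) rfl
  let d : W ⟶ V₂ := Over.homMk (pullback.snd a₁.left a₂.left) (by
    show _ = pullback.fst a₁.left a₂.left ≫ V₁.hom
    rw [← Over.w a₁, ← Over.w a₂, pullback.condition_assoc])
  have h₁ := (FlatMor12.FlatFun.isPullback_XTmap f a₁).w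
  have h₂ := (FlatMor12.FlatFun.isPullback_XTmap f a₂).w
  have hzz : (z ≫ PicF.XTproj f V₁) ≫ a₁.left = (z' ≫ PicF.XTproj f V₂) ≫ a₂.left := by
    rw [Category.assoc, Category.assoc, ← h₁, ← h₂, pullback.condition_assoc]
  let l := pullback.lift (z ≫ PicF.XTproj f V₁) (z' ≫ PicF.XTproj f V₂) hzz
  have hl : l ≫ pullback.fst a₁.left a₂.left = z ≫ PicF.XTproj f V₁ := pullback.lift_fst _ _ _
  have hl' : l ≫ pullback.snd a₁.left a₂.left = z' ≫ PicF.XTproj f V₂ := pullback.lift_snd _ _ _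
  have hrw : (z ≫ pullback.fst f V₁.hom) ≫ f = l ≫ W.hom := by
    show _ = l ≫ pullback.fst a₁.left a₂.left ≫ V₁.hom
    rw [← Category.assoc l, hl, Category.assoc, Category.assoc, pullback.condition]
  refine ⟨W, c, d, pullback.lift (z ≫ pullback.fst f V₁.hom) l hrw, Over.OverMorphism.ext pullback.condition, ?_, ?_⟩
  · apply pullback.hom_ext
    · rw [Category.assoc, FGA.XTmap_fst, pullback.lift_fst]
    · rw [Category.assoc, (FlatMor12.FlatFun.isPullback_XTmap f c).w, ← Category.assoc, pullback.lift_snd]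
      exact hl
  · apply pullback.hom_ext
    · rw [Category.assoc, FGA.XTmap_fst, pullback.lift_fst, ← FGA.XTmap_fst f a₁, ← Category.assoc,
        pullback.condition, Category.assoc, FGA.XTmap_fst]
    · rw [Category.assoc, (FlatMor12.FlatFun.isPullback_XTmap f d).w, ← Category.assoc, pullback.lift_snd]
      exact hl'

theorem exists_glue {ι : Type u} {V : ι → Over S} (a : ∀ i, V i ⟶ T) [∀ i, IsOpenImmersion (a i).left]
    (hcov : ∀ t : T.left, ∃ i, t ∈ (a i).left.opensRange) (x : ∀ i, FGA.ET f E (V i) ⟶ FGA.ET f F (V i))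
    (hx : ∀ (i l : ι) (W : Over S) (c : W ⟶ V i) (d : W ⟶ V l), c ≫ a i = d ≫ a l →
      pullH f E F c (x i) = pullH f E F d (x l)) :
    ∃ φ : FGA.ET f E T ⟶ FGA.ET f F T, ∀ i, pullH f E F (a i) φ = x i := by
  haveI : Coh.IsQCoh (FGA.ET f F T) := EGA43.InjFibre.isQCoh_pullback _ F
  refine exists_hom_nested (fun i => PicF.XTmap f (a i)) (cov_XTmap f a hcov) (fun i => FGA.XTmap_fst f (a i)) x
    fun i j => ?_
  obtain ⟨W, c, d, r, hcd, hr, hr'⟩ := exists_overlap f (a i) (a j)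
  have wz : pullback.fst (PicF.XTmap f (a i)) (PicF.XTmap f (a j)) ≫ pullback.fst f (V i).hom =
      r ≫ pullback.fst f W.hom := by
    rw [← hr, Category.assoc, FGA.XTmap_fst]
  have wz' : pullback.snd (PicF.XTmap f (a i)) (PicF.XTmap f (a j)) ≫ pullback.fst f (V j).hom =
      r ≫ pullback.fst f W.hom := by
    rw [← hr', Category.assoc, FGA.XTmap_fst]
  refine ⟨_, wz, wz', ?_⟩
  rw [← rePull_rePull (FGA.XTmap_fst f c) (rfl : r ≫ pullback.fst f W.hom = _) hr wz,
    ← rePull_rePull (FGA.XTmap_fst f d) (rfl : r ≫ pullback.fst f W.hom = _) hr' wz']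
  exact congrArg (rePull rfl) (hx i j W c d hcd)

variable {f E F}

theorem isSheaf_homFun : Presheaf.IsSheaf (Scheme.zariskiTopology.over S) (homFun f E F) := by
  rw [isSheaf_iff_isSheaf_of_type]
  intro T R hR x hx
  obtain ⟨(𝒱 : Scheme.OpenCover.{u} T.left), hle⟩ :=
    Scheme.exists_cover_of_mem_grothendieckTopology ((GrothendieckTopology.mem_over_iff _ R).1 hR)
  let V : 𝒱.I₀ → Over S := fun i => Over.mk (𝒱.f i ≫ T.hom)
  let a : ∀ i, V i ⟶ T := fun i => Over.homMk (𝒱.f i) rfl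
  haveI : ∀ i, IsOpenImmersion (a i).left := fun i => (inferInstance : IsOpenImmersion (𝒱.f i))
  have hmem : ∀ i, R (a i) := fun i => (Sieve.overEquiv_iff R (𝒱.f i)).1 (hle _ _ (Presieve.ofArrows.mk i))
  have hcov : ∀ y : T.left, ∃ i, y ∈ (a i).left.opensRange := fun y => ⟨𝒱.idx y, 𝒱.covers y⟩
  obtain ⟨G, hG⟩ := exists_glue f E F a hcov (fun i => x (a i) (hmem i)) fun i l W b c h =>
    hx b c (hmem i) (hmem l) h
  refine ⟨G, fun W g hg => ?_, fun G' hG' => ?_⟩
  · let P : 𝒱.I₀ → Over S := fun i => Over.mk (pullback.fst g.left (𝒱.f i) ≫ W.hom)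
    let c : ∀ i, P i ⟶ W := fun i => Over.homMk (pullback.fst g.left (𝒱.f i)) rfl
    haveI : ∀ i, IsOpenImmersion (c i).left := fun i =>
      (inferInstance : IsOpenImmersion (pullback.fst g.left (𝒱.f i)))
    refine pullH_ext_cover f E F c (fun y => ?_) fun i => ?_
    · obtain ⟨i, z, hz⟩ := hcov (g.left y)
      obtain ⟨w, hw, -⟩ := Scheme.Pullback.exists_preimage_pullback y z hz.symm
      exact ⟨i, w, hw⟩
    · let d : P i ⟶ V i := Over.homMk (pullback.snd g.left (𝒱.f i)) (by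
        show _ ≫ 𝒱.f i ≫ T.hom = pullback.fst g.left (𝒱.f i) ≫ W.hom
        rw [← pullback.condition_assoc, Over.w g])
      have hd : c i ≫ g = d ≫ a i := Over.OverMorphism.ext pullback.condition
      show pullH f E F (c i) (pullH f E F g G) = pullH f E F (c i) (x g hg)
      rw [← pullH_comp, hd, pullH_comp, hG]
      exact (hx (c i) d hg (hmem i) hd).symm
  · refine pullH_ext_cover f E F a hcov fun i => ?_
    rw [hG]
    exact hG' _ (hmem i)

end Families

end Groth.Agent.HomSch8
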