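import Groth.Agent.HomSch8.Functor
import Groth.Agent.H8Coh.VanishLocus
import Groth.Agent.Coherent.CohOps
import Groth.Agent.ThetaLib.Scalar
import Mathlib.AlgebraicGeometry.AffineSpace

/-!
# Homomorphisms into a flat family are represented by an affine scheme, from a linear chart
-/

set_option autoImplicit false
set_option linter.style.haveILetI false
set_option linter.unusedSectionVars false
set_option backward.isDefEq.respectTransparency false
set_option maxHeartbeats 1000000

universe u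

open CategoryTheory CategoryTheory.Limits AlgebraicGeometry Opposite TopologicalSpace
open Groth.Agent.Quot8 Groth.Agent.EulerLib

noncomputable section

namespace Groth.Agent.HomSch8

section General

variable {Y P X : Scheme.{u}} {E F G : X.Modules} {a : P ⟶ X} {b : Y ⟶ P} {a' : Y ⟶ X} (w : b ≫ a = a')

theorem rePull_sum {K : Type u} [Fintype K]
    (φ : K → ((Scheme.Modules.pullback a).obj E ⟶ (Scheme.Modules.pullback a).obj F)) :
    rePull w (∑ k, φ k) = ∑ k, rePull w (φ k) := by
  haveI : (Scheme.Modules.pullback b).IsLeftAdjoint :=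
    (Scheme.Modules.pullbackPushforwardAdjunction b).isLeftAdjoint
  simp only [rePull, Functor.map_sum, Preadditive.sum_comp, Preadditive.comp_sum]

theorem rePull_smulMod_map (r : Γ(P, ⊤)) (p : E ⟶ F) :
    rePull w (EulerLib.smulMod ((Scheme.Modules.pullback a).obj E) r ≫ (Scheme.Modules.pullback a).map p) =
      EulerLib.smulMod ((Scheme.Modules.pullback a').obj E) (b.appTop r) ≫ (Scheme.Modules.pullback a').map p := by
  rw [rePull_comp_hom, rePull_map]
  refine congrArg (· ≫ (Scheme.Modules.pullback a').map p) ?_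
  rw [rePull, ThetaLib.pullback_map_smulMod, ← ThetaLib.smulMod_comm, Iso.inv_hom_id_assoc]

end General

variable {X S : Scheme.{u}} (f : X ⟶ S) {E₀ E F : X.Modules} {K : Type u}

/-- The linear combinations of given homomorphisms. -/
def theta [Fintype K] (ψ : K → (E₀ ⟶ F)) (T : Over S) (a : K → Γ(T.left, ⊤)) : FGA.ET f E₀ T ⟶ FGA.ET f F T :=
  ∑ k, EulerLib.smulMod (FGA.ET f E₀ T) ((PicF.XTproj f T).appTop (a k)) ≫
    (Scheme.Modules.pullback (pullback.fst f T.hom)).map (ψ k)

theorem pullH_theta [Fintype K] (ψ : K → (E₀ ⟶ F)) {T T' : Over S} (g : T' ⟶ T) (a : K → Γ(T.left, ⊤)) :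
    pullH f E₀ F g (theta f ψ T a) = theta f ψ T' (fun k => g.left.appTop (a k)) := by
  rw [pullH, theta, rePull_sum]
  refine Finset.sum_congr rfl fun k _ => ?_
  rw [rePull_smulMod_map]
  refine congrArg (fun z => EulerLib.smulMod (FGA.ET f E₀ T') z ≫
    (Scheme.Modules.pullback (pullback.fst f T'.hom)).map (ψ k)) ?_
  have h : PicF.XTmap f g ≫ PicF.XTproj f T = PicF.XTproj f T' ≫ g.left := pullback.lift_snd _ _ _
  rw [← ConcreteCategory.comp_apply, ← Scheme.Hom.comp_appTop, h, Scheme.Hom.comp_appTop]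
  rfl

/-- A linear chart gives representability of the homomorphisms by an affine scheme. -/
theorem exists_rep [IsProper f] [IsNoetherian S] {L : X.Modules}
    (hamp : ∀ V : S.Opens, IsAffineOpen V → CohB1.IsAmple ((Scheme.Modules.pullback (f ⁻¹ᵁ V).ι).obj L))
    (hE₀ : Coh.IsCoh E₀) (hE : Coh.IsCoh E) (hF : Coh.IsCoh F) (hfl : FlatMod.IsFlatOver f F)
    (p : E₀ ⟶ E) [Epi p] [Finite K] (ψ : K → (E₀ ⟶ F))
    (hθ : letI := Fintype.ofFinite K; ∀ T : Over S, Function.Bijective (theta f ψ T)) :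
    ∃ (V : Over S) (u : FGA.ET f E V ⟶ FGA.ET f F V), IsAffineHom V.hom ∧
      ∀ (T : Over S) (φ : FGA.ET f E T ⟶ FGA.ET f F T), ∃! g : T ⟶ V, pullH f E F g u = φ := by
  letI := Fintype.ofFinite K
  haveI : IsLocallyNoetherian X := LocallyOfFiniteType.isLocallyNoetherian f
  have hker : Coh.IsCoh (kernel p) := Coherent.isCoh_kernel p hE₀ hE.1
  let V₀ : Over S := Over.mk (AffineSpace K S ↘ S)
  let u₀ := theta f ψ V₀ (fun k => AffineSpace.coord S k)
  let h : FGA.ET f (kernel p) V₀ ⟶ FGA.ET f F V₀ :=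
    (Scheme.Modules.pullback (pullback.fst f V₀.hom)).map (kernel.ι p) ≫ u₀
  obtain ⟨Z, j, hj, hZ⟩ := H8Coh.exists_vanishing_locus (f := f) (hsq := IsPullback.of_hasPullback f V₀.hom) hamp
    hker hF hfl h
  let V : Over S := Over.mk (j ≫ V₀.hom)
  let jO : V ⟶ V₀ := Over.homMk j rfl
  have hiff : ∀ {T : Over S} (g : T ⟶ V₀), rePull (FGA.XTmap_fst f g) h = 0 ↔ ∃ k : T.left ⟶ Z, k ≫ j = g.left :=
    fun {T} g => (rePull_eq_zero_iff _ _).trans (hZ _ _ g.left (PicF.XTmap f g) (PicF.XTproj f T)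
      (FlatMor12.FlatFun.isPullback_XTmap f g))
  have hdesc : ∀ (T : Over S) (h₀ : FGA.ET f E₀ T ⟶ FGA.ET f F T),
      (Scheme.Modules.pullback (pullback.fst f T.hom)).map (kernel.ι p) ≫ h₀ = 0 →
        ∃ φ : FGA.ET f E T ⟶ FGA.ET f F T, (Scheme.Modules.pullback (pullback.fst f T.hom)).map p ≫ φ = h₀ := by
    intro T h₀ h0
    let Φ := Scheme.Modules.pullback (pullback.fst f T.hom)
    haveI : Φ.IsLeftAdjoint := (Scheme.Modules.pullbackPushforwardAdjunction _).isLeftAdjoint
    have hc := CokernelCofork.mapIsColimit (CokernelCofork.ofπ p (kernel.condition p))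
      (Abelian.epiIsCokernelOfKernel (KernelFork.ofι (kernel.ι p) (kernel.condition p)) (kernelIsKernel p)) Φ
    exact ⟨hc.desc (CokernelCofork.ofπ h₀ h0), hc.fac (CokernelCofork.ofπ h₀ h0) WalkingParallelPair.one⟩
  have hpb : ∀ {T : Over S} (g : T ⟶ V₀), pullH f E₀ F g u₀ = theta f ψ T (fun k => g.left.appTop (AffineSpace.coord S k)) :=
    fun g => pullH_theta f ψ g _
  have hh : ∀ {T : Over S} (g : T ⟶ V₀), rePull (FGA.XTmap_fst f g) h =
      (Scheme.Modules.pullback (pullback.fst f T.hom)).map (kernel.ι p) ≫ pullH f E₀ F g u₀ := by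
    intro T g
    rw [rePull_comp_hom, rePull_map]
    rfl
  have hj0 : rePull (FGA.XTmap_fst f jO) h = 0 := (hiff jO).2 ⟨𝟙 Z, Category.id_comp j⟩
  obtain ⟨u, hu⟩ := hdesc V (pullH f E₀ F jO u₀) ((hh jO).symm.trans hj0)
  haveI : IsAffineHom (AffineSpace K S ↘ S) := inferInstance
  refine ⟨V, u, (inferInstance : IsAffineHom (j ≫ (AffineSpace K S ↘ S))), fun T φ => ?_⟩
  have hcomp : ∀ g : T ⟶ V, (Scheme.Modules.pullback (pullback.fst f T.hom)).map p ≫ pullH f E F g u =
      theta f ψ T (fun k => (g ≫ jO).left.appTop (AffineSpace.coord S k)) := by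
    intro g
    rw [← hpb, pullH_comp f E₀ F jO g, ← hu]
    symm
    rw [pullH, rePull_comp_hom, rePull_map]
    rfl
  obtain ⟨a, ha⟩ := (hθ T).2 ((Scheme.Modules.pullback (pullback.fst f T.hom)).map p ≫ φ)
  let g₀ : T ⟶ V₀ := Over.homMk (AffineSpace.homOfVector T.hom a) (AffineSpace.homOfVector_over _ _)
  have hg₀ : pullH f E₀ F g₀ u₀ = (Scheme.Modules.pullback (pullback.fst f T.hom)).map p ≫ φ := by
    rw [hpb, ← ha]
    exact congrArg (theta f ψ T) (funext fun k => AffineSpace.homOfVector_appTop_coord T.hom a k)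
  obtain ⟨k, hk⟩ := (hiff g₀).1 (by
    rw [hh, hg₀, ← Functor.map_comp_assoc, kernel.condition, Functor.map_zero, zero_comp])
  let g : T ⟶ V := Over.homMk k (by
    show k ≫ j ≫ V₀.hom = T.hom
    rw [← Category.assoc, hk]
    exact Over.w g₀)
  have hgj : g ≫ jO = g₀ := Over.OverMorphism.ext hk
  haveI := Grass.epi_pullback_map (pullback.fst f T.hom) p
  refine ⟨g, ?_, fun g' hg' => ?_⟩
  · show pullH f E F g u = φ
    rw [← cancel_epi ((Scheme.Modules.pullback (pullback.fst f T.hom)).map p), hcomp, hgj, ← hg₀, hpb]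
  · have h1 : theta f ψ T (fun k => (g' ≫ jO).left.appTop (AffineSpace.coord S k)) = theta f ψ T a := by
      rw [← hcomp, show pullH f E F g' u = φ from hg', ha]
    have h2 := congrFun ((hθ T).1 h1)
    haveI := hj
    refine Over.OverMorphism.ext ?_
    rw [← cancel_mono j]
    show g'.left ≫ j = k ≫ j
    rw [hk]
    refine AffineSpace.hom_ext ?_ fun i => ?_
    · rw [Category.assoc]
      exact (Over.w g').trans (Over.w g₀).symm
    · exact (h2 i).trans (AffineSpace.homOfVector_appTop_coord T.hom a i).symm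

end Groth.Agent.HomSch8
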