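import Groth.Agent.HomSch8.Rep
import Groth.Agent.Quot8.BaseChangeQuot
import Groth.Agent.Misc15.OverGlue

/-!
# Change of base and gluing for homomorphism functors
-/

set_option autoImplicit false
set_option linter.style.haveILetI false
set_option linter.unusedSectionVars false
set_option backward.isDefEq.respectTransparency false
set_option maxHeartbeats 1000000

universe u

open CategoryTheory CategoryTheory.Limits AlgebraicGeometry Opposite TopologicalSpace
open Groth.Agent.Quot8 Groth.Agent.EulerLib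

noncomputable section

namespace Groth.Agent.HomSch8

section General

variable {Y P X : Scheme.{u}} {E F : X.Modules} {a : P ⟶ X} {b : Y ⟶ P} {a' : Y ⟶ X} (w : b ≫ a = a')

theorem bijective_rePull_of_isIso [IsIso b] :
    Function.Bijective (rePull w : ((Scheme.Modules.pullback a).obj E ⟶ (Scheme.Modules.pullback a).obj F) → _) := by
  have w' : inv b ≫ a' = a := by rw [← w, IsIso.inv_hom_id_assoc]
  refine Function.bijective_iff_has_inverse.2 ⟨rePull w', fun φ => ?_, fun φ => ?_⟩
  · rw [rePull_rePull w w' (IsIso.inv_hom_id b) (Category.id_comp a) φ]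
    exact rePull_id rfl _ φ
  · rw [rePull_rePull w' w (IsIso.hom_inv_id b) (Category.id_comp a') φ]
    exact rePull_id rfl _ φ

end General

variable {S S' X X' : Scheme.{u}} {j : S' ⟶ S} {f : X ⟶ S} {f' : X' ⟶ S'} {p : X' ⟶ X}
  (hsq : IsPullback p f' f j) (E F : X.Modules)

/-- A family over the old base as a family over the new one. -/
def conjFam (T : Over S') (φ : FGA.ET f E ((Over.map j).obj T) ⟶ FGA.ET f F ((Over.map j).obj T)) :
    FGA.ET f' ((Scheme.Modules.pullback p).obj E) T ⟶ FGA.ET f' ((Scheme.Modules.pullback p).obj F) T :=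
  (bcGenIso (pullback.fst f' T.hom) p rfl E).hom ≫ rePull (bcFam_hom_fst hsq T) φ ≫
    (bcGenIso (pullback.fst f' T.hom) p rfl F).inv

theorem bijective_conjFam (T : Over S') : Function.Bijective (conjFam hsq E F T) := by
  haveI : IsIso (bcFam hsq T).hom := inferInstance
  obtain ⟨h1, h2⟩ := bijective_rePull_of_isIso (E := E) (F := F) (bcFam_hom_fst hsq T)
  refine ⟨fun a b h => h1 ?_, fun ψ => ?_⟩
  · exact (cancel_mono (bcGenIso (pullback.fst f' T.hom) p rfl F).inv).1
      ((cancel_epi (bcGenIso (pullback.fst f' T.hom) p rfl E).hom).1 h)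
  · obtain ⟨φ, hφ⟩ := h2 ((bcGenIso (pullback.fst f' T.hom) p rfl E).inv ≫ ψ ≫
      (bcGenIso (pullback.fst f' T.hom) p rfl F).hom)
    exact ⟨φ, by simp [conjFam, hφ]⟩

theorem pullH_conjFam {T T₁ : Over S'} (g : T₁ ⟶ T)
    (φ : FGA.ET f E ((Over.map j).obj T) ⟶ FGA.ET f F ((Over.map j).obj T)) :
    pullH f' ((Scheme.Modules.pullback p).obj E) ((Scheme.Modules.pullback p).obj F) g (conjFam hsq E F T φ) =
      conjFam hsq E F T₁ (pullH f E F ((Over.map j).map g) φ) := by
  have w' : PicF.XTmap f' g ≫ (pullback.fst f' T.hom ≫ p) = pullback.fst f' T₁.hom ≫ p := by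
    rw [← Category.assoc, FGA.XTmap_fst]
  rw [pullH, conjFam, rePull_nest (rfl : pullback.fst f' T.hom ≫ p = _) (FGA.XTmap_fst f' g) w' rfl, conjFam]
  refine congrArg (fun z => (bcGenIso (pullback.fst f' T₁.hom) p rfl E).hom ≫ z ≫
    (bcGenIso (pullback.fst f' T₁.hom) p rfl F).inv) ?_
  have hk : (PicF.XTmap f' g ≫ (bcFam hsq T).hom) ≫ pullback.fst f ((Over.map j).obj T).hom =
      pullback.fst f' T₁.hom ≫ p := by
    rw [Category.assoc, bcFam_hom_fst, w']
  rw [pullH, rePull_rePull (bcFam_hom_fst hsq T) w' rfl hk,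
    rePull_rePull (FGA.XTmap_fst f ((Over.map j).map g)) (bcFam_hom_fst hsq T₁) (XTmap_bcFam hsq g).symm hk]

theorem rePull_conj_map {Y : Scheme.{u}} (b : Y ⟶ X') {E₀ F₀ : X.Modules} (q : E₀ ⟶ F₀) :
    (bcGenIso b p rfl E₀).hom ≫ (Scheme.Modules.pullback (b ≫ p)).map q ≫ (bcGenIso b p rfl F₀).inv =
      (Scheme.Modules.pullback b).map ((Scheme.Modules.pullback p).map q) := by
  rw [← Category.assoc, Iso.comp_inv_eq]
  exact (((Scheme.Modules.pullbackComp b p) ≪≫ (Scheme.Modules.pullbackCongr rfl)).hom.naturality q).symm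

/-- Change of base carries linear combinations to linear combinations. -/
theorem conjFam_theta {K : Type u} [Fintype K] (ψ : K → (E ⟶ F)) (T : Over S') (a : K → Γ(T.left, ⊤)) :
    conjFam hsq E F T (theta f ψ ((Over.map j).obj T) a) =
      theta f' (fun k => (Scheme.Modules.pullback p).map (ψ k)) T a := by
  rw [conjFam, theta, rePull_sum, Preadditive.sum_comp, Preadditive.comp_sum, theta]
  refine Finset.sum_congr rfl fun k _ => ?_
  rw [rePull_smulMod_map, Category.assoc,
    reassoc_of% (ThetaLib.smulMod_comm (bcGenIso (pullback.fst f' T.hom) p rfl E).hom), rePull_conj_map]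
  refine congrArg (fun z => EulerLib.smulMod _ z ≫ _) ?_
  rw [← ConcreteCategory.comp_apply, ← Scheme.Hom.comp_appTop, bcFam_hom_proj]
  rfl

/-- The representability of the homomorphisms between families. -/
def IsRep {X S : Scheme.{u}} (f : X ⟶ S) (E F : X.Modules) : Prop :=
  ∃ (V : Over S) (u : FGA.ET f E V ⟶ FGA.ET f F V), IsAffineHom V.hom ∧
    ∀ (T : Over S) (φ : FGA.ET f E T ⟶ FGA.ET f F T), ∃! g : T ⟶ V, pullH f E F g u = φ

/-- Representability is local on the base. -/
theorem isRep_of_local [Coh.IsQCoh F]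
    (h : ∀ s : S, ∃ W : S.Opens, s ∈ W ∧ IsRep (f ∣_ W) ((Scheme.Modules.pullback (f ⁻¹ᵁ W).ι).obj E)
      ((Scheme.Modules.pullback (f ⁻¹ᵁ W).ι).obj F)) : IsRep f E F := by
  choose W hsW V v haff hv using h
  have hsq : ∀ s, IsPullback (f ⁻¹ᵁ W s).ι (f ∣_ W s) f (W s).ι := fun s => (isPullback_morphismRestrict f (W s)).flip
  choose u hu using fun s => (bijective_conjFam (hsq s) E F (V s)).2 (v s)
  let Z : S → Over S := fun s => (Over.map (W s).ι).obj (V s)
  have hlift : ∀ (s : S) (T : Over S), Set.range T.hom ⊆ (W s : Set S) → ∀ φ : FGA.ET f E T ⟶ FGA.ET f F T,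
      ∃! z : T ⟶ Z s, pullH f E F z (u s) = φ := by
    intro s T hT φ
    let l := IsOpenImmersion.lift (W s).ι T.hom (by rw [Scheme.Opens.range_ι]; exact hT)
    have hl : l ≫ (W s).ι = T.hom := IsOpenImmersion.lift_fac _ _ _
    let T' : Over (W s).toScheme := Over.mk l
    let a : (Over.map (W s).ι).obj T' ≅ T := Over.isoMk (Iso.refl _) ((Category.id_comp _).trans hl.symm)
    obtain ⟨g, hg, hgu⟩ := hv s T' (conjFam (hsq s) E F T' (pullH f E F a.hom φ))
    have hg' : pullH f E F ((Over.map (W s).ι).map g) (u s) = pullH f E F a.hom φ := by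
      refine (bijective_conjFam (hsq s) E F T').1 ?_
      rw [← pullH_conjFam, hu s]
      exact hg
    refine ⟨a.inv ≫ (Over.map (W s).ι).map g, ?_, fun z hz => ?_⟩
    · show pullH f E F _ (u s) = φ
      rw [pullH_comp, hg', ← pullH_comp, Iso.inv_hom_id, pullH_id]
    · have hzV : z.left ≫ (V s).hom = l := by
        rw [← cancel_mono (W s).ι, Category.assoc, hl]
        exact Over.w z
      let g' : T' ⟶ V s := Over.homMk z.left hzV
      have e : g' = g := by
        refine hgu g' ?_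
        show pullH _ _ _ g' (v s) = _
        rw [← hu s, pullH_conjFam]
        refine congrArg _ ?_
        rw [← show pullH f E F z (u s) = φ from hz, ← pullH_comp]
        exact congrArg (fun q => pullH f E F q (u s)) (Over.OverMorphism.ext (Category.id_comp z.left).symm)
      refine Over.OverMorphism.ext ?_
      show z.left = 𝟙 _ ≫ g.left
      rw [Category.id_comp, ← e]
      rfl
  have hsub : ∀ (s : S) {T : Over S} (z : T ⟶ Z s), Set.range T.hom ⊆ (W s : Set S) := fun s T z => by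
    rw [← Over.w z]
    rintro _ ⟨x, rfl⟩
    exact ((V s).hom (z.left x)).2
  let pp : homFun f E F ⟶ yoneda.obj (Over.mk (𝟙 S)) :=
    { app := fun T => TypeCat.ofHom fun _ => (Over.homMk T.unop.hom (Category.comp_id _) : T.unop ⟶ Over.mk (𝟙 S))
      naturality := fun T T' t => ConcreteCategory.hom_ext _ _ fun φ => Over.OverMorphism.ext (Over.w t.unop).symm }
  let jj : ∀ s, (yoneda.obj (Z s) : (Over S)ᵒᵖ ⥤ Type u) ⟶ homFun f E F := fun s =>
    { app := fun T => TypeCat.ofHom fun z => pullH f E F z (u s)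
      naturality := fun T T' t => ConcreteCategory.hom_ext _ _ fun z => pullH_comp f E F z t.unop (u s) }
  obtain ⟨R, ⟨rep⟩⟩ := Misc15.OverGlue.exists_representableBy (homFun f E F) pp W
    (fun T φ => eq_top_iff.2 fun x _ => Opens.mem_iSup.2 ⟨T.hom x, hsW _⟩) Z jj
    (fun s T z z' hzz => (hlift s T (hsub s z) _).unique hzz rfl)
    (fun s T z => hsub s z)
    (fun s T φ hφ => ⟨(hlift s T hφ φ).choose, (hlift s T hφ φ).choose_spec.1⟩)
    (isSheaf_homFun)
  let U : FGA.ET f E R ⟶ FGA.ET f F R := rep.homEquiv (𝟙 R)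
  have hrep : ∀ {T : Over S} (g : T ⟶ R), rep.homEquiv g = pullH f E F g U := fun {T} g =>
    (congrArg rep.homEquiv (Category.comp_id g).symm).trans (rep.homEquiv_comp g (𝟙 R))
  have huniv : ∀ (T : Over S) (φ : FGA.ET f E T ⟶ FGA.ET f F T), ∃! g : T ⟶ R, pullH f E F g U = φ := fun T φ =>
    ⟨rep.homEquiv.symm φ, (hrep _).symm.trans (rep.homEquiv.apply_symm_apply φ), fun g hg =>
      (rep.homEquiv.symm_apply_apply g).symm.trans (congrArg rep.homEquiv.symm ((hrep g).trans hg))⟩
  refine ⟨R, U, ?_, huniv⟩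
  refine IsZariskiLocalAtTarget.of_iSup_eq_top (P := @IsAffineHom) W
    (eq_top_iff.2 fun x _ => Opens.mem_iSup.2 ⟨x, hsW x⟩) fun s => ?_
  let RW : Over S := Over.mk ((R.hom ⁻¹ᵁ W s).ι ≫ R.hom)
  let incl : RW ⟶ R := Over.homMk (R.hom ⁻¹ᵁ W s).ι rfl
  have hRW : Set.range RW.hom ⊆ (W s : Set S) := by
    rintro _ ⟨x, rfl⟩
    exact x.2
  obtain ⟨z, hz, -⟩ := hlift s RW hRW (pullH f E F incl U)
  obtain ⟨c, hc, -⟩ := huniv (Z s) (u s)
  have hzc : z ≫ c = incl := (huniv RW (pullH f E F incl U)).unique (by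
    show pullH f E F (z ≫ c) U = _
    rw [pullH_comp, hc]
    exact hz) rfl
  have hcr : Set.range c.left ⊆ Set.range (R.hom ⁻¹ᵁ W s).ι := by
    rw [Scheme.Opens.range_ι]
    rintro _ ⟨x, rfl⟩
    show R.hom (c.left x) ∈ W s
    rw [show R.hom (c.left x) = (Z s).hom x from congr($(Over.w c) x)]
    exact ((V s).hom x).2
  let c' := IsOpenImmersion.lift (R.hom ⁻¹ᵁ W s).ι c.left hcr
  have hc' : c' ≫ (R.hom ⁻¹ᵁ W s).ι = c.left := IsOpenImmersion.lift_fac _ _ _
  let cO : Z s ⟶ RW := Over.homMk c' (by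
    show c' ≫ (R.hom ⁻¹ᵁ W s).ι ≫ R.hom = (Z s).hom
    rw [← Category.assoc, hc']
    exact Over.w c)
  have hcO : cO ≫ incl = c := Over.OverMorphism.ext hc'
  have h1 : cO ≫ z = 𝟙 (Z s) := by
    refine (hlift s (Z s) (hsub s (𝟙 _)) (u s)).unique ?_ (pullH_id f E F (u s))
    show pullH f E F (cO ≫ z) (u s) = u s
    rw [pullH_comp, hz, ← pullH_comp, hcO, hc]
  haveI : Mono incl := Over.mono_of_mono_left incl
  have h2 : z ≫ cO = 𝟙 RW := by
    rw [← cancel_mono incl, Category.assoc, hcO, hzc, Category.id_comp]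
  haveI : IsIso z.left := ⟨c', congrArg Over.Hom.left h2, congrArg Over.Hom.left h1⟩
  have hres : R.hom ∣_ W s = z.left ≫ (V s).hom := by
    rw [← cancel_mono (W s).ι, morphismRestrict_ι, Category.assoc]
    exact (Over.w z).symm
  haveI := haff s
  show IsAffineHom (R.hom ∣_ W s)
  rw [hres]
  infer_instance

end Groth.Agent.HomSch8
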